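import Groth.Agent.H46.Equidim
import Groth.Agent.H2.FibreDimPullback
import Mathlib

/-!
# Universal equidimensionality of flat morphisms
-/

set_option autoImplicit false
set_option linter.style.haveILetI false

universe u

open CategoryTheory CategoryTheory.Limits AlgebraicGeometry TopologicalSpace
open Groth.Agent.Lib.Cyc Groth.Agent.H46.FibreTrdeg

namespace Groth.Agent.H19.Equidim

variable {X Y : Scheme.{u}}

/-- A flat morphism maps maximal points to maximal points. -/
theorem isMaxPt_image (f : X ⟶ Y) [Flat f] {ξ : X} (hξ : DimFun.IsMaxPt ξ) : DimFun.IsMaxPt (f ξ) :=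
  fun y hy => by
  obtain ⟨x, hx, rfl⟩ := Flat.generalizingMap f hy
  rw [hξ x hx]

/-- The local fibre dimension of a flat morphism is that of its generic fibres. -/
theorem fibreDimAt_eq (f : X ⟶ Y) [LocallyOfFiniteType f] [UniversallyOpen f] (r : ℕ)
    (hgen : ∀ ξ : X, DimFun.IsMaxPt ξ → trd f ξ = r) (x : X) : FlatMor.fibreDimAt f x = r := by
  refine Groth.Agent.H46.Equidim.fibreDimAt_eq_of_data f (U := ⊤) (fun u _ hu => ?_) (x := x) trivial
  obtain ⟨ξ, hξ, hξu, -, hle⟩ := Groth.Agent.H46.Equidim.exists_component_of_universallyOpen f u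
  rw [fibreDimAt_of_isMaxFib f hu, hgen ξ hξ, Nat.cast_le] at hle
  exact le_antisymm hle ((hgen ξ hξ).ge.trans (trd_le_of_specializes f hξu hu))

/-- Universal equidimensionality. -/
theorem univ_equidim (f : X ⟶ Y) [LocallyOfFiniteType f] [Flat f] [LocallyOfFinitePresentation f] (r : ℕ)
    (hgen : ∀ ξ : X, DimFun.IsMaxPt ξ → trd f ξ = r) {Y' : Scheme.{u}} (g : Y' ⟶ Y) :
    (∀ w : ↥(pullback f g), FlatMor.fibreDimAt (pullback.snd f g) w = r) ∧
      ∀ C ∈ irreducibleComponents ↥(pullback f g),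
        closure ((pullback.snd f g).base '' C) ∈ irreducibleComponents ↥Y' := by
  haveI : UniversallyOpen f := UniversallyOpen.of_flat f
  refine ⟨fun w => (H2.FibreDimPullback.fibreDimAt_of_isPullback (IsPullback.of_hasPullback f g) w).trans
    (fibreDimAt_eq f r hgen _), fun C hC => ?_⟩
  obtain ⟨ξ, hξ, rfl⟩ := Groth.Agent.H46.Equidim.exists_generic_of_mem_irreducibleComponents hC
  rw [Groth.Agent.H46.Equidim.closure_image_closure']
  exact FieldDim.closure_mem_irreducibleComponents _ (isMaxPt_image _ hξ)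

/-- Over a point which is maximal in the base all local fibre dimensions of `closure z` equal `r`. -/
theorem fibreDimAt_over_maxPt {S Z : Scheme.{u}} (p : X ⟶ S) [LocallyOfFiniteType p] (z : X)
    {r : ℕ} (hr : topologicalKrullDim ↥(closure ({p.asFiber z} : Set ↥(p.fiber (p.base z)))) = r)
    (ι : Z ⟶ X) [IsClosedImmersion ι] (hZ : Set.range ι.base = closure {z}) (c : Z)
    (hc : DimFun.IsMaxPt ((ι ≫ p) c)) :
    FlatMor.fibreDimAt (ι ≫ p) c = r := by
  obtain ⟨z', hz'⟩ : z ∈ Set.range ι := by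
    show z ∈ Set.range ι.base
    rw [hZ]; exact subset_closure rfl
  have hgen : ∀ a, z' ⤳ a := fun a => by
    rw [← ι.isEmbedding.isInducing.specializes_iff, hz', specializes_iff_mem_closure, ← hZ]
    exact ⟨a, rfl⟩
  have hs : (ι ≫ p) z' = (ι ≫ p) c := hc _ ((hgen c).map (ι ≫ p).continuous)
  have htr : trd p z = r := by
    rw [FieldDim.topologicalKrullDim_closure (K := S.residueField (p z))
      (p.fiberToSpecResidueField (p z)) (p.asFiber z), fdelta_fiber, p.fiberι_asFiber, Int.toNat_natCast] at hr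
    exact_mod_cast hr
  have htr' : trd (ι ≫ p) z' = r := by rw [trd_comp, hz', htr]
  rw [fibreDimAt_eq_iff]
  exact ⟨fun ξ hξ _ => htr' ▸ trd_le (ι ≫ p) (hgen ξ) (hs.trans hξ.symm), z', hs, hgen c, htr'⟩

theorem flat_of_injective {R A B : Type u} [CommRing R] [CommRing A] [CommRing B] [IsDomain R]
    [IsDedekindDomain R] (φ : R →+* A) (ψ : A →+* B) (hinj : Function.Injective ψ)
    (hu : ∀ r : R, r ≠ 0 → IsUnit (ψ (φ r))) : φ.Flat := by
  algebraize [φ]
  show Module.Flat R A
  rw [IsDedekindDomain.flat_iff_torsion_eq_bot, eq_bot_iff]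
  intro a ha
  obtain ⟨⟨r, hr⟩, hra⟩ := (Submodule.mem_torsion_iff a).1 ha
  refine Submodule.mem_bot R |>.2 (hinj ?_)
  rw [map_zero]
  have h : ψ (φ r) * ψ a = 0 := by
    rw [← map_mul, show φ r * a = 0 from hra, map_zero]
  exact (hu r (nonZeroDivisors.ne_zero hr)).mul_right_eq_zero.1 h

/-- The scheme-theoretic image of a scheme over the fraction field is flat over a DVR. -/
theorem flat_image {R : Type u} [CommRing R] [IsDomain R] [IsDiscreteValuationRing R] {W V : Scheme.{u}}
    (h : W ⟶ V) [QuasiCompact h] (π : V ⟶ Spec (CommRingCat.of R))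
    (s : W ⟶ Spec (CommRingCat.of (FractionRing R)))
    (w : h ≫ π = s ≫ Spec.map (CommRingCat.ofHom (algebraMap R (FractionRing R)))) :
    Flat (h.ker.subschemeι ≫ π) := by
  refine (HasRingHomProperty.iff_of_iSup_eq_top (P := @Flat)
    (fun U : V.affineOpens => (⟨h.imageι ⁻¹ᵁ U.1, U.2.preimage h.imageι⟩ : h.image.affineOpens)) ?_).2 fun U => ?_
  · refine top_le_iff.1 fun x _ => ?_
    obtain ⟨W', hW', hxW, -⟩ := exists_isAffineOpen_mem_and_subset (Opens.mem_top (h.imageι x))
    exact Opens.mem_iSup.2 ⟨⟨W', hW'⟩, hxW⟩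
  set O := h.imageι ⁻¹ᵁ U.1
  let e := Scheme.ΓSpecIso (CommRingCat.of R)
  have key : ((h.imageι ≫ π).appLE ⊤ O le_top).hom =
      ((e.inv ≫ (h.imageι ≫ π).appLE ⊤ O le_top).hom).comp e.hom.hom := by
    rw [← CommRingCat.hom_comp, Iso.hom_inv_id_assoc]
  show RingHom.Flat ((h.imageι ≫ π).appLE ⊤ O le_top).hom
  rw [key]
  refine RingHom.Flat.comp (RingHom.Flat.of_bijective (ConcreteCategory.bijective_of_isIso e.hom))
    (flat_of_injective _ (h.toImage.app O).hom (h.toImage_app_injective U) fun r hr => ?_)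
  have h1 : h.toImage ≫ h.imageι ≫ π = s ≫ Spec.map (CommRingCat.ofHom (algebraMap R (FractionRing R))) := by
    rw [← w, h.toImage_imageι_assoc]
  have h2 : (h.imageι ≫ π).appLE ⊤ O le_top ≫ h.toImage.app O =
      (s ≫ Spec.map (CommRingCat.ofHom (algebraMap R (FractionRing R)))).appLE ⊤ (h.toImage ⁻¹ᵁ O) le_top := by
    rw [Scheme.Hom.app_eq_appLE, Scheme.Hom.appLE_comp_appLE]
    simp only [h1]
  have h3 : e.inv ≫ (h.imageι ≫ π).appLE ⊤ O le_top ≫ h.toImage.app O =
      CommRingCat.ofHom (algebraMap R (FractionRing R)) ≫ (Scheme.ΓSpecIso _).inv ≫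
        s.appLE ⊤ (h.toImage ⁻¹ᵁ O) le_top := by
    rw [h2, Scheme.Hom.comp_appLE, ← Category.assoc, ← Category.assoc, Scheme.ΓSpecIso_inv_naturality]
    rfl
  have h4 := congrArg (fun φ => φ.hom r) h3
  simp only [CommRingCat.hom_comp, RingHom.comp_apply, CommRingCat.hom_ofHom] at h4 ⊢
  rw [h4]
  exact ((IsUnit.mk0 _ fun h5 => hr ((map_eq_zero_iff _ (IsFractionRing.injective R (FractionRing R))).1 h5)).map
    (Scheme.ΓSpecIso (CommRingCat.of (FractionRing R))).inv.hom).map (s.appLE ⊤ (h.toImage ⁻¹ᵁ O) le_top).hom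

theorem exists_pre {A B C D : Scheme.{u}} {a : A ⟶ B} {b : A ⟶ C} {c : B ⟶ D} {d : C ⟶ D}
    (H : IsPullback a b c d) (x : B) (y : C) (h : c x = d y) : ∃ w, a w = x ∧ b w = y := by
  obtain ⟨w, h1, h2⟩ := Scheme.Pullback.exists_preimage_pullback (f := c) (g := d) x y h
  exact ⟨H.isoPullback.inv w, by rw [← Scheme.Hom.comp_apply, H.isoPullback_inv_fst, h1],
    by rw [← Scheme.Hom.comp_apply, H.isoPullback_inv_snd, h2]⟩

/-- The point of the spectrum of the fraction field lies over the generic point. -/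
theorem specMap_fractionRing_apply {R : Type u} [CommRing R] [IsDomain R]
    (p : Spec (CommRingCat.of (FractionRing R))) :
    Spec.map (CommRingCat.ofHom (algebraMap R (FractionRing R))) p = ⟨⊥, Ideal.isPrime_bot⟩ := by
  let q : PrimeSpectrum (FractionRing R) := p
  show PrimeSpectrum.comap (algebraMap R (FractionRing R)) q = _
  ext1
  show Ideal.comap _ q.asIdeal = ⊥
  rw [Ideal.eq_bot_of_prime (I := q.asIdeal), ← RingHom.ker_eq_comap_bot]
  exact (RingHom.injective_iff_ker_eq_bot _).1 (IsFractionRing.injective R (FractionRing R))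

end Groth.Agent.H19.Equidim
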