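import Groth.Agent.H19.Equidim.Main

/-!
# Flat closures: local rings at maximal points
-/

set_option autoImplicit false
set_option linter.style.haveILetI false

universe u

open CategoryTheory CategoryTheory.Limits AlgebraicGeometry TopologicalSpace
open Groth.Agent.Lib.Cyc

namespace Groth.Agent.H19.Equidim

theorem isOpenImmersion_specMap_fractionRing (R : Type u) [CommRing R] [IsDomain R] [IsDiscreteValuationRing R] :
    IsOpenImmersion (Spec.map (CommRingCat.ofHom (algebraMap R (FractionRing R)))) := by
  obtain ⟨ϖ, hϖ⟩ := IsDiscreteValuationRing.exists_irreducible R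
  haveI : IsLocalization.Away ϖ (FractionRing R) := by
    refine (IsLocalization.iff_of_le_of_exists_dvd (Submonoid.powers ϖ) (nonZeroDivisors R) ?_ ?_).2
      (inferInstanceAs (IsFractionRing R (FractionRing R)))
    · rintro _ ⟨n, rfl⟩
      exact mem_nonZeroDivisors_of_ne_zero (pow_ne_zero _ hϖ.ne_zero)
    · intro a ha
      obtain ⟨n, u, rfl⟩ := IsDiscreteValuationRing.eq_unit_mul_pow_irreducible (nonZeroDivisors.ne_zero ha) hϖ
      exact ⟨ϖ ^ n, ⟨n, rfl⟩, ((↑u⁻¹ : R)), by rw [mul_comm (↑u : R), mul_assoc, Units.mul_inv, mul_one]⟩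
  exact IsOpenImmersion.of_isLocalization ϖ

theorem isClosedImmersion_map {X Z S T : Scheme.{u}} (ι : Z ⟶ X) [IsClosedImmersion ι] (p : X ⟶ S) (x : T ⟶ S) :
    IsClosedImmersion (pullback.map (ι ≫ p) x p x ι (𝟙 _) (𝟙 S) (Category.comp_id _)
      ((Category.comp_id _).trans (Category.id_comp _).symm)) := by
  have H : IsPullback (pullback.map (ι ≫ p) x p x ι (𝟙 _) (𝟙 S) (Category.comp_id _)
      ((Category.comp_id _).trans (Category.id_comp _).symm)) (pullback.fst _ _) (pullback.fst p x) ι := by
    refine (IsPullback.of_right ?_ (pullback.lift_fst _ _ _) (IsPullback.of_hasPullback p x).flip).flip.flip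
    rw [show pullback.map (ι ≫ p) x p x ι (𝟙 _) (𝟙 S) (Category.comp_id _)
      ((Category.comp_id _).trans (Category.id_comp _).symm) ≫ pullback.snd p x = pullback.snd _ _ from
      (pullback.lift_snd _ _ _).trans (Category.comp_id _)]
    exact (IsPullback.of_hasPullback (ι ≫ p) x).flip
  exact MorphismProperty.of_isPullback H.flip ‹IsClosedImmersion ι›

/-- The stalk maps into the scheme-theoretic image of an open immersion are bijective. -/
theorem bijective_toImage_stalkMap {W V : Scheme.{u}} (h : W ⟶ V) [IsOpenImmersion h] [QuasiCompact h] (w : W) :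
    Function.Bijective (h.toImage.stalkMap w).hom := by
  have hb : Function.Bijective (h.stalkMap w).hom := ConcreteCategory.bijective_of_isIso (h.stalkMap w)
  have key : ∀ (g : W ⟶ V), g = h → Function.Bijective (g.stalkMap w).hom := by rintro _ rfl; exact hb
  have h1 := key _ h.toImage_imageι
  rw [Scheme.Hom.stalkMap_comp] at h1
  have hs : Function.Surjective (h.imageι.stalkMap (h.toImage w)).hom := h.imageι.stalkMap_surjective _
  refine ⟨fun a b hab => ?_, fun y => ?_⟩
  · obtain ⟨a, rfl⟩ := hs a
    obtain ⟨b, rfl⟩ := hs b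
    rw [show a = b from h1.1 hab]
  · obtain ⟨a, ha⟩ := h1.2 y
    exact ⟨_, ha⟩

theorem length_eq_of_bijective {R S : Type u} [CommRing R] [CommRing S] (φ : R →+* S) (hφ : Function.Bijective φ) :
    Module.length R R = Module.length S S := by
  letI := φ.toAlgebra
  have h1 : Module.length S S = Module.length R S :=
    (Module.length_eq_of_surjective (R := S) (show Function.Surjective (algebraMap R S) from hφ.2)).symm
  rw [h1]
  exact (LinearEquiv.ofBijective (Algebra.linearMap R S) hφ).length_eq

/-- A point whose local ring has finite length is maximal. -/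
theorem isMaxPt_of_length_ne_top {X : Scheme.{u}} {x : X}
    (h : Module.length (X.presheaf.stalk x) (X.presheaf.stalk x) ≠ ⊤) : DimFun.IsMaxPt x := by
  haveI : IsFiniteLength (X.presheaf.stalk x) (X.presheaf.stalk x) := Module.length_ne_top_iff.1 h
  haveI : IsArtinian (X.presheaf.stalk x) (X.presheaf.stalk x) := (isFiniteLength_iff_isNoetherian_isArtinian.1 ‹_›).2
  intro y hy
  have : y ∈ Set.range (X.fromSpecStalk x) := by rw [Scheme.range_fromSpecStalk]; exact hy
  obtain ⟨q, rfl⟩ := this
  have hm : q.asIdeal.IsMaximal := IsArtinianRing.isMaximal_of_isPrime q.asIdeal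
  have : q = IsLocalRing.closedPoint (X.presheaf.stalk x) := PrimeSpectrum.ext (IsLocalRing.eq_maximalIdeal hm)
  rw [this, Scheme.fromSpecStalk_closedPoint]

end Groth.Agent.H19.Equidim
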